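import Cfsg.Agent.MQ.S.F42T.Tab
import Cfsg.Agent.MQ.S.F42.Cov
import Cfsg.Agent.MK.GO.Num_m3
import Cfsg.Agent.BZ.X.F42D
import Cfsg.Agent.BZ.T.Count_m3
import Cfsg.Agent.H65.F4T.Mult
import Cfsg.Agent.FourTwo.Classes
import Cfsg.Agent.H671.KGV.Lift
import Cfsg.Agent.MQ.S.F42.Loc
import Cfsg.Agent.Lib.FinFast
import Cfsg.Agent.Lib.NodupNat
import Cfsg.Agent.FastGrp
import Cfsg.Agent.Prune
set_option linter.all false
prune_inst 0x7ffcb9ffeba9bfffffff7e3ffedfdffe3384cfffafdff94bbfe92f9f8f5f03230dc5fbad8de050fe9e66e21410b87853fb7eeeffeb6fdc7ffffdfdf41ffbee4ff7ffb50851dd8cb41fbe6fff93f07f8e6f3fffffffffffffffffffffffffffffffbffbfeffff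
open scoped Cfsg.Agent.FastGrp

-- part: MO/S/F42T/Grp
section
/-!
# MO, `2.F₄(2)` : the graph automorphism on the types and an element of order `16` (helper64)
-/

set_option autoImplicit false
set_option maxRecDepth 100000
set_option Elab.async false
set_option maxHeartbeats 400000
set_option synthInstance.maxSize 100000

namespace Cfsg.Agent.MO.S.F42T

open Cfsg Subgroup Cfsg.Agent.TAB.Eng Cfsg.Agent.TAB.F42 Cfsg.Agent.FourTwo.Base Cfsg.Agent.TAB.F42.G Cfsg.Agent.TAB.Co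
open Cfsg.Agent.MO.S.F42 (W zc W_append map_W W_rev W_eq lift_gam mem_cen sgB)

/-- the element -/
def n75 : List ℕ := [24, 25, 33, 27]

private noncomputable def _root_.Cfsg.Agent.LsF.fe1fa25_0 : {f // @Cfsg.Agent.TAB.Eng.Dat.ord = f} := ⟨_, by first | (delta Cfsg.Agent.TAB.Eng.Dat.ord; rewrite [Cfsg.Agent.LsF.getD_eq]; exact rfl) | exact rfl⟩
private noncomputable def _root_.Cfsg.Agent.LsF.fe1fa25_1 : {f // @Cfsg.Agent.TAB.Eng.look = f} := ⟨_, by first | (delta Cfsg.Agent.TAB.Eng.look List.brecOn List.brecOn.go Cfsg.Agent.TAB.Eng.look._f; rewrite [Cfsg.Agent.LsF.instDecEq_eq, Cfsg.Agent.LsF.ite_eq]; (try delta Cfsg.Agent.TAB.Eng.look.match_1); (try delta List.casesOn); first | dsimp -zeta only | exact rfl) | exact rfl⟩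
private noncomputable def _root_.Cfsg.Agent.LsF.fe1fa25_2 : {f // @Cfsg.Agent.TAB.Eng.Dat.pw = f} := ⟨_, by first | (delta Cfsg.Agent.TAB.Eng.Dat.pw; rewrite [Cfsg.Agent.LsF.getD_eq]; exact rfl) | exact rfl⟩
private noncomputable def _root_.Cfsg.Agent.LsF.fe1fa25_3 : {f // @Cfsg.Agent.TAB.Eng.Dat.pwf = f} := ⟨_, by first | (delta Cfsg.Agent.TAB.Eng.Dat.pwf; rewrite [Cfsg.Agent.LsF.fe1fa25_1.2, Cfsg.Agent.LsF.fe1fa25_2.2, Cfsg.Agent.LsF.fe1fa25_0.2]; exact rfl) | exact rfl⟩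
theorem cT : ∀ t < 92, ∀ s < 92, D.ord s = D.ord t → nth na s = nth na' t → nth na' s = nth na t →
    nth na (D.pwf s 2) = nth na' (D.pwf t 2) → nth na (D.pwf s 3) = nth na' (D.pwf t 3) → s = ntd tau 0 t := by
  (refine of_decide_eq_true ?_; (try (rewrite [Cfsg.Agent.LsF.fe1fa25_0.2, Cfsg.Agent.LsF.fe1fa25_3.2, Cfsg.Agent.LsF.instDecEq_eq, Cfsg.Agent.LsF.instIDecEq_eq, Cfsg.Agent.LsF.dBallLT_eq, Cfsg.Agent.LsF.dAllP_eq, Cfsg.Agent.LsF.decide_eq])); decide +kernel)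

private noncomputable def _root_.Cfsg.Agent.LsF.fe1fa25_4 : {f // @Cfsg.Agent.TAB.F42.G.rows = f} := ⟨_, by first | (delta Cfsg.Agent.TAB.F42.G.rows; rewrite [Cfsg.Agent.LsF.getD_eq]; exact rfl) | exact rfl⟩
private noncomputable def _root_.Cfsg.Agent.LsF.fe1fa25_5 : {f // @Cfsg.Agent.TAB.F42.G.wdF = f} := ⟨_, by first | (delta Cfsg.Agent.TAB.F42.G.wdF; rewrite [Cfsg.Agent.LsF.fe1fa25_4.2]; exact rfl) | exact rfl⟩
private noncomputable def _root_.Cfsg.Agent.LsF.fe1fa25_6 : {f // @Cfsg.Agent.TAB.F42.G.shF = f} := ⟨_, by first | (delta Cfsg.Agent.TAB.F42.G.shF; (try delta Cfsg.Agent.TAB.F42.G.shF.match_1); (try delta Cfsg.Agent.TAB.F42.G.shF._sparseCasesOn_1); (try delta Cfsg.Agent.TAB.F42.G.shF._sparseCasesOn_2); exact rfl) | exact rfl⟩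
private noncomputable def _root_.Cfsg.Agent.LsF.fe1fa25_7 : {f // @Cfsg.Agent.TAB.F42.G.crG = f} := ⟨_, by first | (delta Cfsg.Agent.TAB.F42.G.crG; (try delta Cfsg.Agent.TAB.F42.G.shF.match_1); (try delta Cfsg.Agent.TAB.F42.G.shF._sparseCasesOn_1); (try delta Cfsg.Agent.TAB.F42.G.shF._sparseCasesOn_2); exact rfl) | exact rfl⟩
private noncomputable def _root_.Cfsg.Agent.LsF.fe1fa25_8 : {f // @Cfsg.Agent.TAB.F42.G.crF = f} := ⟨_, by first | (delta Cfsg.Agent.TAB.F42.G.crF; rewrite [Cfsg.Agent.LsF.fe1fa25_7.2]; (try delta Cfsg.Agent.TAB.F42.G.shF.match_1); (try delta Cfsg.Agent.TAB.F42.G.shF._sparseCasesOn_1); (try delta Cfsg.Agent.TAB.F42.G.shF._sparseCasesOn_2); exact rfl) | exact rfl⟩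
private noncomputable def _root_.Cfsg.Agent.LsF.fe1fa25_9 : {f // @Cfsg.Agent.TAB.F42.G.opF = f} := ⟨_, by first | (delta Cfsg.Agent.TAB.F42.G.opF; rewrite [Cfsg.Agent.LsF.fe1fa25_6.2, Cfsg.Agent.LsF.fe1fa25_8.2]; exact rfl) | exact rfl⟩
private noncomputable def _root_.Cfsg.Agent.LsF.fe1fa25_10 : {f // @Cfsg.Agent.TAB.F42.G.runF = f} := ⟨_, by first | (delta Cfsg.Agent.TAB.F42.G.runF; rewrite [Cfsg.Agent.LsF.fe1fa25_9.2]; exact rfl) | exact rfl⟩
private noncomputable def _root_.Cfsg.Agent.LsF.fe1fa25_11 : {f // @Cfsg.Agent.TAB.F42.G.cgF = f} := ⟨_, by first | (delta Cfsg.Agent.TAB.F42.G.cgF; rewrite [Cfsg.Agent.LsF.fe1fa25_10.2]; exact rfl) | exact rfl⟩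
private noncomputable def _root_.Cfsg.Agent.LsF.fe1fa25_12 : {f // @Cfsg.Agent.TAB.F42.G.cY = f} := ⟨_, by first | (delta Cfsg.Agent.TAB.F42.G.cY; rewrite [Cfsg.Agent.LsF.fe1fa25_11.2]; exact rfl) | exact rfl⟩
theorem c75 : (∀ t < 92, nth na (D.pwf t 2) = 3456 → t = 75) ∧ wdF (n75 ++ n75) (cY (80 :: qa)) = 3456 := by
  (refine of_decide_eq_true ?_; (try (rewrite [Cfsg.Agent.LsF.fe1fa25_3.2, Cfsg.Agent.LsF.fe1fa25_5.2, Cfsg.Agent.LsF.fe1fa25_12.2, Cfsg.Agent.LsF.lappend_pat, Cfsg.Agent.LsF.instDecEq_eq, Cfsg.Agent.LsF.instIDecEq_eq, Cfsg.Agent.LsF.dAnd_eq, Cfsg.Agent.LsF.dBallLT_eq, Cfsg.Agent.LsF.dAllP_eq, Cfsg.Agent.LsF.decide_eq])); decide +kernel)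

theorem ty_tau {G : Type} [Group G] (T : TD G D) (α : G ≃* G) (h : ∀ g, α (α g) = g)
    (h1 : ∀ g, nth na (T.ty (α g)) = nth na' (T.ty g)) (g : G) : T.ty (α g) = ntd tau 0 (T.ty g) := by
  refine cT _ (T.lt g) _ (T.lt _) (by rw [← T.ord, ← T.ord, α.orderOf_eq]) (h1 g) (by rw [← h1, h]) ?_ ?_ <;>
    rw [← T.pow, ← T.pow, ← map_pow, h1]

private noncomputable def _root_.Cfsg.Agent.LsF.fe1fa25_13 : {f // @Cfsg.Agent.TAB.Eng.Dat.okPow = f} := ⟨_, by first | (delta Cfsg.Agent.TAB.Eng.Dat.okPow; rewrite [Cfsg.Agent.LsF.dMemP_pat, Cfsg.Agent.LsF.fe1fa25_0.2, Cfsg.Agent.LsF.fe1fa25_2.2, Cfsg.Agent.LsF.fe1fa25_1.2, Cfsg.Agent.LsF.nadd_pat, Cfsg.Agent.LsF.nmul_pat, Cfsg.Agent.LsF.nmod_pat, Cfsg.Agent.LsF.nbeq_pat, Cfsg.Agent.LsF.nbne_pat, Cfsg.Agent.LsF.dProdEq_eq, Cfsg.Agent.LsF.and_eq, Cfsg.Agent.LsF.or_eq, Cfsg.Agent.LsF.instDecEq_eq, Cfsg.Agent.LsF.decLt_eq, Cfsg.Agent.LsF.all_eq, Cfsg.Agent.LsF.range_eq, Cfsg.Agent.LsF.decide_eq];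 exact rfl) | exact rfl⟩
private noncomputable def _root_.Cfsg.Agent.LsF.fe1fa25_14 : {f // @Cfsg.Agent.TAB.F42.G.val = f} := ⟨_, by first | (delta Cfsg.Agent.TAB.F42.G.val; rewrite [Cfsg.Agent.LsF.icast_pat, Cfsg.Agent.LsF.getD_eq]; exact rfl) | exact rfl⟩
/-- **the types** -/
theorem exists_T : ∃ T : TD LL D, Hyp T ∧ (∀ g, T.ty (_root_.Cfsg.Agent.TAB.F42.G.gam g) = ntd tau 0 (T.ty g)) ∧ T.ty (wd n75) = 75 := by
  have := finite_LL
  obtain ⟨T, hm, hV⟩ := exists_cls (K := key) (D := D) (val := val) (by ((try (rewrite [Cfsg.Agent.LsF.fe1fa25_13.2])); decide +kernel)) (by ((try (delta Cfsg.Agent.TAB.Eng.Dat.okSep; rewrite [Cfsg.Agent.LsF.fe1fa25_0.2, Cfsg.Agent.LsF.fe1fa25_2.2, Cfsg.Agent.LsF.fe1fa25_14.2, Cfsg.Agent.LsF.nbeq_pat, Cfsg.Agent.LsF.nbne_pat, Cfsg.Agent.LsF.and_eq, Cfsg.Agent.LsF.or_eq, Cfsg.Agent.LsF.all_eq, Cfsg.Agent.LsF.any_eq, Cfsg.Agent.LsF.range_eq, Cfsg.Agent.LsF.instIDecEq_eq, Cfsg.Agent.LsF.dNot_eq,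 Cfsg.Agent.LsF.decide_eq])); decide +kernel))
    (by decide +kernel) card_LL (V := VV) (fun _ _ _ hv hc => hv.conj hc) good_all
  have h1 : ∀ g, nth na (T.ty (_root_.Cfsg.Agent.TAB.F42.G.gam g)) = nth na' (T.ty g) := fun g => (hV (_root_.Cfsg.Agent.TAB.F42.G.gam g)).2.1.2.1.symm.trans (hV g).2.2.2.1
  refine ⟨T, ⟨hm, (orb_of T (MonoidHom.id LL) prX (Ns := []) (fun g => (hV g).1) (by simp only [_root_.List.not_mem_nil, _root_.ne_eq, _root_.MonoidHom.id_apply, _root_.Subtype.forall, _root_.IsEmpty.forall_iff, _root_.implies_true])).virt,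
    orb_Y T (MonoidHom.id LL) fun g => (hV g).2.1, orb_Y T gam.toMonoidHom fun g => (hV g).2.2⟩,
    ty_tau T _root_.Cfsg.Agent.TAB.F42.G.gam FourTwo.AutF4.gam_gam h1, c75.1 _ (T.lt _) ?_⟩
  obtain ⟨R, hR, e⟩ := wdF_spec (n75 ++ n75)
  rw [← T.pow, ← (hV _).2.1.2.1, sq, ← wd_append, ← cY_eq hR, ← e (cY _), c75.2]
  rfl

theorem cent_conj {G : Type} [Group G] [Finite G] {a b h : G} (e : h * a = b * h) :
    Nat.card (centralizer ({b} : Set G)) ≤ Nat.card (centralizer ({a} : Set G)) :=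
  Nat.card_le_card_of_injective (fun g => ⟨h⁻¹ * g * h, mem_centralizer_singleton_iff.2 (by
    rw [mul_assoc, e, ← mul_assoc, mul_assoc h⁻¹, mem_centralizer_singleton_iff.1 g.2, eq_inv_mul_iff_mul_eq.2 e]
    group)⟩) fun a b h => Subtype.ext (mul_left_cancel (mul_right_cancel (congrArg Subtype.val h)))

theorem c64 : wdF [4, 26, 28, 34] (fun R => chainF prX PX (allM 69615) (H123.Cls.cmb 18 13) R
    [33525417, 37904448, 47217899, 4130496, 33976169, 47876279, 23985938,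
     60161651, 25441295, 23756659, 33688561, 27826010, 44398893, 16604447, 27733728, 52675887, 29709684, 45828004,
     29759964, 2072115, 39330824, 66517043, 42264628, 60225156, 30342533, 4273564]
    [⟨59271592, [80, 80, 16451, 24883, 336, 40979, 208, 80, 32819], [80, 80, 16595, 208, 24915,
     24915, 336, 33235, 49747, 74451, 49875, 58067, 720, 58195, 74707, 91219, 107731, 132435, 99667, 66387, 82899,
     115795, 140499, 83155, 57939], 64⟩] []) = true := by decide +kernel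

theorem cent_n : Nat.card (centralizer ({wd n75} : Set LL)) ≤ 64 := by
  have := finite_LL
  obtain ⟨R, hR, e⟩ := wdF_spec [4, 26, 28, 34]
  refine (cent_conj (a := wd [4, 26, 28, 34]) (h := wd [24, 23, 24, 28, 19, 28, 33, 14, 33]) ?_).trans
    (cent_le' lanesX (by norm_num) hR ((e _).symm.trans c64))
  rw [← wd_append, ← wd_append]
  exact wd_eq _ _ (by decide +kernel)

/-- elements whose lifts commute with the lifts of `n75` -/
def cL : List (List ℕ) := [[], [47], [32, 38, 42, 46]]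

/-- the products -/
def wL : List (List ℕ) := (List.range 11).flatMap fun i => cL.map fun c => (List.replicate i n75).flatten ++ c

namespace Q5

open Cfsg.Agent.TAB.F42

/-- the parity -/
noncomputable def parK (n : ℕ) : ℕ → Bool :=
  Nat.rec (fun _ => false) (fun _ ih x => cond (Nat.beq (Nat.mod x 2) 1) (!ih (Nat.shiftRight x 1)) (ih (Nat.shiftRight x 1))) n

theorem parK_eq (n a b : ℕ) : G.dot n a b = parK n (Nat.land a b) := by
  induction n generalizing a b with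
  | zero => rfl
  | succ n ih =>
    show xor (a.testBit 0 && b.testBit 0) (G.dot n (a >>> 1) (b >>> 1)) =
      cond (Nat.beq ((a &&& b) % 2) 1) (!parK n ((a &&& b) >>> 1)) (parK n ((a &&& b) >>> 1))
    rw [ih, ← Nat.testBit_and, Nat.testBit_zero, Nat.shiftRight_and_distrib]
    rcases Nat.mod_two_eq_zero_or_one (a &&& b) with h | h <;> rw [h]
    · exact Bool.false_xor _
    · exact Bool.true_xor _

/-- one letter -/
noncomputable def apK (R : List ℕ) (c : ℕ) : ℕ :=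
  List.rec 0 (fun r _ ih => Nat.add (cond (parK 26 (Nat.land r c)) 1 0) (Nat.mul 2 ih)) R

theorem apK_eq (R : List ℕ) (c : ℕ) : G.ap R c = apK R c := by
  induction R with
  | nil => rfl
  | cons r R ih => exact congrArg₂ Nat.add (congrArg Bool.toNat (parK_eq 26 r c)) (congrArg (Nat.mul 2) ih)

/-- a word -/
noncomputable def wK (w : List ℕ) (c : ℕ) : ℕ := List.rec (Nat.mod c 67108864) (fun r _ ih => frc ih (apK (G.rows r))) w

theorem wK_eq (w : List ℕ) (c : ℕ) : apW w c = wK w c := by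
  induction w with
  | nil => rfl
  | cons r w ih => exact (apK_eq _ _).trans ((congrArg _ ih).trans (frc_eq _ _).symm)

theorem apW_app (w w' : List ℕ) (c : ℕ) : apW (w ++ w') c = apW w (apW w' c) := by
  induction w with
  | nil => exact (Nat.mod_eq_of_lt (apW_lt w' c)).symm
  | cons r w ih => exact congrArg (G.ap (G.rows r)) ih

theorem apW_it (w c : List ℕ) (v i : ℕ) : apW ((List.replicate i w).flatten ++ c) v = (wK w)^[i] (wK c v) := by
  induction i with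
  | zero => exact wK_eq c v
  | succ i ih =>
    rw [List.replicate_succ, List.flatten_cons, List.append_assoc, apW_app, ih, Function.iterate_succ_apply', wK_eq]

end Q5

private noncomputable def _root_.Cfsg.Agent.LsF.fe1fa25_17 : {f // @Cfsg.Agent.MO.S.F42T.Q5.parK = f} := ⟨_, by first | (delta Cfsg.Agent.MO.S.F42T.Q5.parK; rewrite [Cfsg.Agent.LsF.not_eq, Cfsg.Agent.LsF.cond_eq]; exact rfl) | exact rfl⟩
private noncomputable def _root_.Cfsg.Agent.LsF.fe1fa25_18 : {f // @Cfsg.Agent.MO.S.F42T.Q5.apK = f} := ⟨_, by first | (delta Cfsg.Agent.MO.S.F42T.Q5.apK; rewrite [Cfsg.Agent.LsF.fe1fa25_17.2, Cfsg.Agent.LsF.cond_eq]; exact rfl) | exact rfl⟩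
private noncomputable def _root_.Cfsg.Agent.LsF.fe1fa25_19 : {f // @Cfsg.Agent.MO.S.F42T.Q5.wK = f} := ⟨_, by first | (delta Cfsg.Agent.MO.S.F42T.Q5.wK; rewrite [Cfsg.Agent.LsF.fe1fa25_18.2, Cfsg.Agent.LsF.fe1fa25_4.2]; exact rfl) | exact rfl⟩
theorem cW : (wL.map fun w => apW w 59271592).Nodup ∧ wL.length = 33 ∧ ∀ c ∈ cL, (∀ r ∈ c, r < 48) ∧
    chk (n75 ++ c ++ n75.reverse ++ c.reverse) [] = true ∧ sgB (n75 ++ c ++ n75.reverse ++ c.reverse) false = true := by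
  refine ⟨?_, by decide +kernel⟩
  have h : ((List.range 11).flatMap fun i => cL.map fun c => (Q5.wK n75)^[i] (Q5.wK c 59271592)).Nodup := by (refine of_decide_eq_true ?_; (try (rewrite [Cfsg.Agent.NodupNat.dec_eq, Cfsg.Agent.LsF.fe1fa25_19.2, Cfsg.Agent.LsF.iterate_eq, Cfsg.Agent.LsF.map_eq, Cfsg.Agent.LsF.flatMap_eq, Cfsg.Agent.LsF.range_eq, Cfsg.Agent.LsF.decide_eq])); decide +kernel)
  simpa only [wL, List.map_flatMap, List.map_map, Function.comp_def, Q5.apW_it] using h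

variable {Y : Type} [Group Y] {φ : Y →* LL} (h : Cv 2 φ)

theorem n_lt : ∀ r ∈ n75, r < 48 := by decide

theorem n_conj {α : MulAut Y} (hα : ∀ y, φ (α y) = _root_.Cfsg.Agent.TAB.F42.G.gam (φ y)) : IsConj (W h n75) (α (W h n75)) := by
  rw [lift_gam h hα n_lt, show W h n75 = W h [24, 25] * W h [33, 27] from W_append h [24, 25] [33, 27],
    show W h (n75.map bar) = W h [33, 27] * W h [24, 25] from W_append h [33, 27] [24, 25]]
  exact isConj_iff.2 ⟨W h [33, 27], by rw [← mul_assoc, mul_inv_cancel_right]⟩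

theorem n_split : ∀ z ∈ center Y, IsConj (W h n75 * z) (W h n75) → z = 1 := fun z hz hc => by
  classical
  have := finite_LL
  let H : Subgroup LL := (centralizer {W h n75}).map φ
  have h1 : H ≤ centralizer {wd n75} := by
    rintro _ ⟨y, hy, rfl⟩
    rw [mem_centralizer_singleton_iff, ← map_W h n_lt, ← map_mul, ← map_mul, mem_centralizer_singleton_iff.1 hy]
  have h2 : ∀ c ∈ cL, wd c ∈ H := fun c hc => by
    obtain ⟨h2, h3, h4⟩ := cW.2.2 c hc
    have h5 := W_eq h (fun r hr => by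
      simp only [List.mem_append, List.mem_reverse] at hr
      rcases hr with ((hr | hr) | hr) | hr
      exacts [n_lt r hr, h2 r hr, n_lt r hr, h2 r hr]) (wd_eq _ [] h3) h4
    rw [W_append, W_append, W_append, W_rev h n_lt, W_rev h h2, cond_false, mul_inv_eq_one, mul_inv_eq_iff_eq_mul] at h5
    exact ⟨W h c, mem_centralizer_singleton_iff.2 h5.symm, map_W h h2⟩
  have h3 : ∀ i, wd (List.replicate i n75).flatten ∈ H := fun i => by
    induction i with
    | zero => exact one_mem H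
    | succ i ih =>
      rw [List.replicate_succ, List.flatten_cons, wd_append]
      exact mul_mem ⟨W h n75, mem_centralizer_singleton_iff.2 rfl, map_W h n_lt⟩ ih
  have h4 : 33 ≤ Nat.card H := by
    have h4 : (wL.map wd).Nodup := List.Nodup.of_map (fun g => L g 59271592) (by
      rw [List.map_map]
      exact (List.map_congr_left fun w _ => L_wd w _) ▸ cW.1)
    rw [← cW.2.1, ← List.length_map wd, ← List.toFinset_card_of_nodup h4, ← Set.ncard_coe_finset]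
    refine Set.ncard_le_ncard (t := (H : Set LL)) fun g hg => ?_
    obtain ⟨w, hw, rfl⟩ := List.mem_map.1 (List.mem_toFinset.1 hg)
    obtain ⟨i, -, hw⟩ := List.mem_flatMap.1 hw
    obtain ⟨c, hc, rfl⟩ := List.mem_map.1 hw
    rw [wd_append]
    exact mul_mem (h3 i) (h2 c hc)
  have h5 : H = centralizer {wd n75} := by
    obtain ⟨k, hk⟩ := card_dvd_of_le h1
    have h5 := cent_n
    have h6 := Nat.card_pos (α := centralizer ({wd n75} : Set LL))
    refine eq_of_le_of_card_ge h1 ?_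
    rw [hk] at h5 h6 ⊢
    obtain rfl : k = 1 := by
      rcases k with _ | _ | k
      · simp only [_root_.Nat.card_eq_fintype_card, _root_.MulZeroClass.mul_zero, _root_.lt_self_iff_false] at h6
      · rfl
      · nlinarith only [h4, h5]
    rw [mul_one]
  obtain ⟨c, hc⟩ := isConj_iff.1 hc
  have h6 : φ c ∈ H := by
    have h6 := congrArg φ hc
    rw [map_mul, map_mul, map_mul, MonoidHom.mem_ker.1 (h.ker.ge hz), mul_one, map_inv, map_W h n_lt,
      mul_inv_eq_iff_eq_mul] at h6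
    exact h5 ▸ mem_centralizer_singleton_iff.2 h6
  obtain ⟨d, hd, e⟩ := h6
  have h7 : c * d⁻¹ ∈ center Y := h.ker.le (by rw [MonoidHom.mem_ker, map_mul, map_inv, e, mul_inv_cancel])
  have h8 : c * W h n75 = W h n75 * c := by
    rw [← inv_mul_cancel_right c d, mul_assoc, mem_centralizer_singleton_iff.1 hd, ← mul_assoc, ← mul_assoc,
      mem_center_iff.1 h7]
  rw [← mul_assoc, h8, mul_assoc, mul_assoc, mul_eq_left, ← mul_assoc, mem_center_iff.1 hz, mul_inv_cancel_right] at hc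
  exact hc

end Cfsg.Agent.MO.S.F42T
end

-- part: MO/S/F42T/Mdl
section
/-!
# MO, `2.F₄(2)` : a model with a faithful character of degree at most `52` (helper64)

The proofs of `model`, `exists_char`, `odd_const` and of the matrix relations are those of `BZ/X/F42.lean` (helper20).
-/

set_option autoImplicit false
set_option maxRecDepth 10000

namespace Cfsg.Agent.MO.S.F42T

open Cfsg Cfsg.Lie Subgroup Cfsg.Agent.Lib.PackMat Cfsg.Agent.Lib.PackMatGroup Cfsg.Agent.FourTwo.Base Cfsg.Agent.FourTwo.Comm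
open Cfsg.Agent.H65.F4T (sg w2 cmg_lt simple_LL)
open Cfsg.Agent.BZ.X.F42 (C L chkP k_all frc frc_eq okZ scZ good)
open Cfsg.Agent.Characters.Core IsLocalRing Polynomial
open scoped commutatorElement

theorem not_comm : ¬ ∀ a b : LL, a * b = b * a := fun h => (S1054.result (F := ZMod 2) chevF4 (by simp)).2 ⟨⟨h⟩⟩

/-- a double cover from lifts of the root elements -/
theorem model {W : Type} [Group W] {ν : W} (hc : ∀ g, ν * g = g * ν) (h2 : ν * ν = 1) (h1 : ν ≠ 1) {X : ℕ → W}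
    (hsq : ∀ r < 48, X r * X r = 1) (hrel : ∀ r < 48, ∀ s < 48, r ≠ s → r + s ≠ 47 →
      X r * X s = X s * ((cmg r s).map X).prod * X r * if sg r s then ν else 1) :
    ∃ (Γ : Subgroup W) (σ : Γ →* LL) (z : Γ), (z : W) = ν ∧ H51.Mult.PCE σ ∧ ∀ g, σ g = 1 ↔ g = 1 ∨ g = z := by
  have hmem : ∀ g, g ∈ zpowers ν ↔ g = 1 ∨ g = ν := H67.mem_zpowers_of_sq h2
  have hN : (zpowers ν).Normal := ⟨fun n hn g => by
    rcases (hmem n).1 hn with rfl | rfl
    · rw [mul_one, mul_inv_cancel]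
      exact one_mem _
    · rwa [← hc, mul_inv_cancel_right]⟩
  set! q := QuotientGroup.mk' (zpowers ν) with hq
  have hq1 : ∀ g, q g = 1 ↔ g = 1 ∨ g = ν := fun g => by rw [← MonoidHom.mem_ker, QuotientGroup.ker_mk', hmem]
  obtain ⟨φ, hφ⟩ := FourTwo.Pres.exists_hom (f := fun r => q (X r)) (fun r hr => by rw [← map_mul, hsq r hr, map_one])
    fun r hr s hs h3 h4 => by
      rw [show ((cmg r s).map fun r => q (X r)).prod = q (((cmg r s).map X).prod) by
        rw [map_list_prod, List.map_map]; rfl, ← map_mul, hrel r hr s hs h3 h4, map_mul,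
        (hq1 (ite _ _ _)).2 (by split_ifs; exacts [.inr rfl, .inl rfl]), mul_one, map_mul, map_mul]
  have hcm : ∀ r < 48, ∀ s < 48, r ≠ s → r + s ≠ 47 →
      ⁅X s, X r⁆ = ((cmg r s).map X).prod * if sg r s then ν else 1 := fun r hr s hs h3 h4 => by
    have h5 : (if sg r s then ν else 1) * X r = X r * if sg r s then ν else 1 := by
      split_ifs
      exacts [hc _, by rw [one_mul, mul_one]]
    rw [commutatorElement_def, inv_eq_of_mul_eq_one_right (hsq r hr), inv_eq_of_mul_eq_one_right (hsq s hs),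
      mul_assoc (X s) (X r), hrel r hr s hs h3 h4, mul_assoc (X s * _) (X r), ← h5]
    simp only [← mul_assoc]
    rw [hsq s hs, one_mul, mul_assoc _ (X r), hsq r hr, mul_one]
  have hneg : ∀ H : Subgroup W, (∀ r < 48, ∀ s < 48, ⁅X r, X s⁆ ∈ H) → ν ∈ H := fun H h => by
    have a1 := h 43 (by norm_num) 1 (by norm_num)
    have a2 := h 36 (by norm_num) 0 (by norm_num)
    have a3 := h 33 (by norm_num) 3 (by norm_num)
    rw [hcm _ (by norm_num) _ (by norm_num) (by norm_num) (by norm_num)] at a1 a2 a3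
    rw [show cmg 1 43 = [17] by decide +kernel, show sg 1 43 = false by decide +kernel, List.map_singleton,
      List.prod_singleton, if_neg (by decide), mul_one] at a1
    rw [show cmg 0 36 = [7, 17] by decide +kernel, show sg 0 36 = false by decide +kernel, List.map_cons,
      List.map_singleton, List.prod_cons, List.prod_singleton, if_neg (by decide), mul_one] at a2
    rw [show cmg 3 33 = [7] by decide +kernel, show sg 3 33 = true by decide +kernel, List.map_singleton,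
      List.prod_singleton, if_pos rfl] at a3
    exact (H.mul_mem_cancel_left ((H.mul_mem_cancel_right a1).1 a2)).1 a3
  have hcen : ∀ g, g = 1 ∨ g = ν → ∀ h, g * h = h * g := by
    rintro _ (rfl | rfl) h
    exacts [by rw [one_mul, mul_one], hc h]
  have := simple_LL
  have hinj : Function.Injective φ := by
    rw [← MonoidHom.ker_eq_bot_iff]
    refine (IsSimpleGroup.eq_bot_or_eq_top_of_normal _ inferInstance).resolve_right fun htop => h1 ?_
    refine mem_bot.1 (hneg ⊥ fun r hr s _ => ?_)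
    rw [mem_bot, commutatorElement_eq_one_iff_mul_comm]
    refine hcen _ ?_ _
    rw [← hq1, ← hφ r hr, ← MonoidHom.mem_ker, htop]
    exact mem_top _
  let Γ : Subgroup W := φ.range.comap q
  let ρ : Γ →* φ.range := (q.comp Γ.subtype).codRestrict φ.range fun g => g.2
  let σ : Γ →* LL := (MonoidHom.ofInjective hinj).symm.toMonoidHom.comp ρ
  have hσ : ∀ g : Γ, φ (σ g) = q (g : W) := fun g =>
    congrArg Subtype.val (MulEquiv.apply_symm_apply (MonoidHom.ofInjective hinj) (ρ g))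
  have hker : ∀ g : Γ, σ g = 1 ↔ (g : W) = 1 ∨ (g : W) = ν := fun g => by
    rw [← hq1, ← hσ, ← map_one φ]
    exact hinj.eq_iff.symm
  have hν : ν ∈ Γ := by
    change q ν ∈ φ.range
    rw [(hq1 _).2 (.inr rfl)]
    exact one_mem _
  have hX : ∀ r < 48, X r ∈ Γ := fun r hr => ⟨x r, hφ r hr⟩
  have hs : Function.Surjective σ := fun y => by
    obtain ⟨g, hg⟩ := QuotientGroup.mk'_surjective _ (φ y)
    exact ⟨⟨g, y, hg.symm⟩, hinj ((hσ _).trans hg)⟩
  have hz : σ.ker ≤ center Γ := fun g hg => mem_center_iff.2 fun h => Subtype.ext (hcen _ ((hker g).1 hg) _).symm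
  refine ⟨Γ, σ, ⟨ν, hν⟩, rfl, ⟨hs, hz, H67.perf_of_stem ?_ ⟨hs, hz, fun g hg => ?_⟩⟩, fun g => by
    rw [hker, Subtype.ext_iff, Subtype.ext_iff]; rfl⟩
  · refine (IsSimpleGroup.eq_bot_or_eq_top_of_normal (_root_.commutator LL) inferInstance).resolve_left fun h =>
      not_comm fun a b => ?_
    rw [← commutatorElement_eq_one_iff_mul_comm, ← mem_bot, ← h]
    exact commutator_mem_commutator (mem_top _) (mem_top _)
  · obtain ⟨k, hk, hk'⟩ := hneg ((_root_.commutator Γ).map Γ.subtype) fun r hr s hs =>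
      ⟨⁅(⟨X r, hX r hr⟩ : Γ), ⟨X s, hX s hs⟩⁆, commutator_mem_commutator (mem_top _) (mem_top _), by
        rw [map_commutatorElement]; rfl⟩
    rcases (hker g).1 hg with e | e
    · rw [show g = 1 from Subtype.ext e]
      exact one_mem _
    · rwa [show g = k from Subtype.ext (e.trans hk'.symm)]

attribute [local instance] H657.Above.isAlgClosed in
/-- the lift of a representation in coprime characteristic -/
theorem exists_char {G : Type} [Group G] [Finite G] {p n : ℕ} [hp : Fact p.Prime] (h2 : p ≠ 2) (hG : ¬ p ∣ Nat.card G)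
    (ρ : G →* Matrix (Fin n) (Fin n) (ZMod p)) {z : G} (hz : ρ z = -1) :
    ∃ ψ : G → ℂ, IsCharacter G ψ ∧ ψ 1 = n ∧ ψ z = -n := by
  obtain ⟨M, hM⟩ := Blocks.ExistsModular.exists_isPModular hp.out
  obtain ⟨V, hV⟩ := H657.exists_above hM
  have := hV.charP hM
  let f := ZMod.castHom (dvd_refl p) (ResidueField V)
  let σ : Representation (ResidueField V) G (Fin n → ResidueField V) :=
    (Matrix.toLinAlgEquiv' (n := Fin n) (R := ResidueField V)).toMulEquiv.toMonoidHom.comp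
      (f.mapMatrix.toMonoidHom.comp ρ)
  have key : ∀ (g : G) (c : V), H657.IsRU p (c : ℂ) → f.mapMatrix (ρ g) = Matrix.diagonal (fun _ => residue V c) →
      H657.bc p σ g = n * c := fun g c hc h => by
    have h3 : LinearMap.charpoly (σ g) = (X - Polynomial.C (residue V c)) ^ n := by
      change LinearMap.charpoly (Matrix.toLin' (f.mapMatrix (ρ g))) = _
      rw [Matrix.charpoly_toLin', h, Matrix.charpoly_diagonal, Finset.prod_const, Finset.card_fin]
    delta H657.bc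
    rw [h3, roots_pow, roots_X_sub_C, Multiset.map_nsmul, Multiset.sum_nsmul, Multiset.map_singleton,
      Multiset.sum_singleton, H657.lift_residue hc, nsmul_eq_mul]
  refine ⟨_, H699.IBrLift.isCharacter_bc hM hV hG σ, ?_, ?_⟩
  · rw [key 1 1 H671.KGV.isRU_one (by rw [map_one, map_one, map_one, Matrix.diagonal_one]), OneMemClass.coe_one, mul_one]
  · rw [key z (-1) ⟨2, fun h => h2 ((Nat.prime_dvd_prime_iff_eq hp.out Nat.prime_two).1 h), by simp only [_root_.NegMemClass.coe_neg, _root_.OneMemClass.coe_one, _root_.even_two, _root_.Even.neg_pow, _root_.one_pow]⟩ (by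
      rw [hz, map_neg, map_one, map_neg, map_one, ← Matrix.diagonal_one, Matrix.diagonal_neg])]
    simp

/-- an odd constituent -/
theorem odd_const {G : Type} [Group G] [Fintype G] {ψ : G → ℂ} (hψ : IsCharacter G ψ) {z : G} (hz : z ∈ center G)
    (h2 : z * z = 1) (h : ψ z ≠ ψ 1) {n : ℕ} (hn : ψ 1 = n) :
    ∃ χ : G → ℂ, IsIrrCharacter G χ ∧ (∀ g, χ (g * z) = -χ g) ∧ ∃ d : ℕ, χ 1 = d ∧ d ≤ n := by
  have := finite_irr (G := G)
  have := Fintype.ofFinite (IrrCharacter G)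
  obtain ⟨m, hm⟩ := exists_nat_comb hψ
  obtain ⟨χ, h3, h4⟩ : ∃ χ : IrrCharacter G, m χ ≠ 0 ∧ ∀ g, (χ : G → ℂ) (g * z) = -(χ : G → ℂ) g := by
    by_contra! h3
    refine h ?_
    rw [hm, Finset.sum_apply, Finset.sum_apply]
    refine Finset.sum_congr rfl fun χ _ => ?_
    by_cases h4 : m χ = 0
    · rw [h4, zero_smul, Pi.zero_apply, Pi.zero_apply]
    · obtain ⟨g, hg⟩ := h3 χ h4
      rw [Pi.smul_apply, Pi.smul_apply, ← ((BZ.C6.sgn χ.2 hz h2).resolve_right fun h5 => hg (h5 g)) 1, one_mul]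
  obtain ⟨d, -, hd⟩ := isIrr_apply_one χ.2
  exact ⟨χ, χ.2, h4, d, hd, BZ.C6.deg_le hψ χ.2 hd hn (by rw [hm, classInner_sum_nsmul_irr]; exact Nat.cast_ne_zero.2 h3)⟩

/-- the matrix with index `r` -/
noncomputable def Mt (r : ℕ) : M _root_.Cfsg.Agent.BZ.X.F42.C := mat _root_.Cfsg.Agent.BZ.X.F42.C (get L r)

theorem spec {r : ℕ} (hr : r < 48) : okG _root_.Cfsg.Agent.BZ.X.F42.C (get L r) = true ∧ checkScalar _root_.Cfsg.Agent.BZ.X.F42.C (cw L [r, r]) 1 0 52 = true ∧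
    ∀ s < 48, chkP L r s = true := by
  have h : frc L (fun L => okG _root_.Cfsg.Agent.BZ.X.F42.C (get L r) && frc (cw L [r, r]) (fun u => checkScalar _root_.Cfsg.Agent.BZ.X.F42.C u 1 0 52) &&
    allBelow (chkP L r) 48) = true := k_all r hr
  rw [frc_eq, frc_eq, Bool.and_eq_true, Bool.and_eq_true] at h
  exact ⟨h.1.1, h.1.2, allBelow_spec h.2⟩

theorem okA {r : ℕ} (hr : r < 49) : okG _root_.Cfsg.Agent.BZ.X.F42.C (get L r) = true := by
  rcases Nat.lt_succ_iff_lt_or_eq.1 hr with h | rfl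
  exacts [(spec h).1, okZ]

theorem sqM {r : ℕ} (hr : r < 48) : Mt r * Mt r = 1 :=
  mat_mul_eq_one good (by decide) (spec hr).1 (spec hr).1 (spec hr).2.1

theorem Mt_Z : Mt 48 = -1 := by
  have h := prod_scalar_of_check good (w := [get L 48]) (c := 30) (by decide) (by decide)
    (fun g hg => List.mem_singleton.1 hg ▸ okZ) scZ
  rw [List.map_singleton, List.prod_singleton, show ((30 : ℕ) : ZMod C.p) = -1 by decide, neg_smul, one_smul] at h
  exact h

theorem cw_ok' (w : List ℕ) (h : ∀ i ∈ w, i < 49) : (∀ g ∈ cw L w, okG _root_.Cfsg.Agent.BZ.X.F42.C g = true) ∧ (cw L w).map (mat _root_.Cfsg.Agent.BZ.X.F42.C) = w.map Mt := by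
  induction w with
  | nil => exact ⟨fun _ h => absurd h List.not_mem_nil, rfl⟩
  | cons i w ih =>
    obtain ⟨h1, h2⟩ := List.forall_mem_cons.1 h
    rw [cw_cons, List.map_cons, List.map_cons, (ih h2).2]
    exact ⟨List.forall_mem_cons.2 ⟨okA h1, (ih h2).1⟩, rfl⟩

theorem cm_lt {r s : ℕ} (hr : r < 48) (hs : s < 48) : ∀ c ∈ cmg r s, c < 48 := fun c hc =>
  of_decide_eq_true (List.all_eq_true.1 (List.all_eq_true.1 (List.all_eq_true.1 cmg_lt r (List.mem_range.2 hr)) s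
    (List.mem_range.2 hs)) c hc)

theorem relM {r s : ℕ} (hr : r < 48) (hs : s < 48) (h1 : r ≠ s) (h2 : r + s ≠ 47) :
    Mt r * Mt s = Mt s * ((cmg r s).map Mt).prod * Mt r * if sg r s then -1 else 1 := by
  have h : (bif (Nat.beq r s || Nat.beq (r + s) 47) then true else
    frc (cw L [r, s]) fun u => frc (cw L (w2 r s)) fun v => checkEq _root_.Cfsg.Agent.BZ.X.F42.C u v 0 52) = true := (spec hr).2.2 s hs
  rw [show (Nat.beq r s || Nat.beq (r + s) 47) = false from Bool.or_eq_false_iff.2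
    ⟨Bool.eq_false_iff.2 fun h => h1 (Nat.eq_of_beq_eq_true h), Bool.eq_false_iff.2 fun h => h2 (Nat.eq_of_beq_eq_true h)⟩,
    cond_false, frc_eq, frc_eq] at h
  have k1 := cw_ok' [r, s] (List.forall_mem_cons.2 ⟨by omega, List.forall_mem_singleton.2 (by omega)⟩)
  have k2 := cw_ok' (w2 r s) (List.forall_mem_cons.2 ⟨by omega, List.forall_mem_append.2
    ⟨fun c hc => (cm_lt hr hs c hc).trans (by norm_num), List.forall_mem_cons.2 ⟨by omega, by cases sg r s <;> simp⟩⟩⟩)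
  have h5 := prod_eq_of_check good (by decide) k1.1 k2.1 h
  rw [k1.2, k2.2] at h5
  delta w2 at h5
  cases hsg : sg r s <;> simpa only [hsg, mul_assoc, Mt_Z, _root_.Bool.false_eq_true, ↓ _root_.reduceIte, _root_.mul_one, _root_.List.map_cons, _root_.List.map_nil, _root_.List.prod_cons, _root_.List.prod_nil, _root_.cond_false, _root_.List.map_append, _root_.List.prod_append, _root_.mul_neg, _root_.cond_true] using h5

/-- the matrices as group elements -/
noncomputable def Xu (r : ℕ) : U _root_.Cfsg.Agent.BZ.X.F42.C := if h : r < 48 then ⟨Mt r, Mt r, sqM h, sqM h⟩ else 1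

theorem coe_Xu {r : ℕ} (hr : r < 48) : (Xu r : M _root_.Cfsg.Agent.BZ.X.F42.C) = Mt r := by rw [Xu, dif_pos hr]

theorem relU {r s : ℕ} (hr : r < 48) (hs : s < 48) (h1 : r ≠ s) (h2 : r + s ≠ 47) :
    Xu r * Xu s = Xu s * ((cmg r s).map Xu).prod * Xu r * if sg r s then -1 else 1 := by
  have e : (((cmg r s).map Xu).prod : U _root_.Cfsg.Agent.BZ.X.F42.C) = ((cmg r s).map Mt).prod := by
    rw [← Units.coeHom_apply, map_list_prod, List.map_map]
    exact congrArg _ (List.map_congr_left fun c hc => coe_Xu (cm_lt hr hs c hc))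
  refine Units.ext ?_
  rw [Units.val_mul, Units.val_mul, Units.val_mul, Units.val_mul, coe_Xu hr, coe_Xu hs, e, relM hr hs h1 h2]
  split_ifs <;> rfl

theorem cv_of {K : Type} [Group K] {σ : K →* LL} {z : K} (hσ : H51.Mult.PCE σ) (hk : ∀ g, σ g = 1 ↔ g = 1 ∨ g = z)
    (h1 : z ≠ 1) (h2 : z * z = 1) : Cv 2 σ := by
  have := simple_LL
  have hL : center LL = ⊥ := (IsSimpleGroup.eq_bot_or_eq_top_of_normal (center LL) inferInstance).resolve_right
    fun h => not_comm fun a b => mem_center_iff.1 (h.ge (mem_top b)) a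
  have hker : σ.ker = center K := le_antisymm hσ.cen fun g hg => by
    rw [MonoidHom.mem_ker, ← mem_bot, ← hL, mem_center_iff]
    intro y
    obtain ⟨y, rfl⟩ := hσ.surj y
    rw [← map_mul, ← map_mul, mem_center_iff.1 hg]
  have hcard : Nat.card (center K) = 2 := by
    rw [show center K = zpowers z from Subgroup.ext fun g => by
      rw [← hker, MonoidHom.mem_ker, hk, H67.mem_zpowers_of_sq h2], Nat.card_zpowers,
      orderOf_eq_prime ((pow_two _).trans h2) h1]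
  exact ⟨hσ.surj, hker, hcard, isCyclic_of_prime_card hcard, hσ.perf⟩

/-- **the model** -/
theorem cover : ∃ (K : Type) (_ : Group K) (_ : Fintype K) (φ : K →* LL) (v : Cv 2 φ) (ψ : K → ℂ) (e : ℕ),
    IsIrrCharacter K ψ ∧ (∀ g, ψ (g * F42.zc v) = -ψ g) ∧ ψ 1 = e ∧ e ≤ 52 := by
  have hne : (-1 : U _root_.Cfsg.Agent.BZ.X.F42.C) ≠ 1 := fun h => by
    have h1 := congrArg (fun g : U _root_.Cfsg.Agent.BZ.X.F42.C => (g : M _root_.Cfsg.Agent.BZ.X.F42.C) ⟨0, by decide⟩ ⟨0, by decide⟩) h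
    simp only [Units.val_neg, Units.val_one, Matrix.neg_apply, Matrix.one_apply_eq] at h1
    exact absurd h1 (by decide)
  obtain ⟨Γ, σ, z, hz, hσ, hk⟩ := model (ν := (-1 : U _root_.Cfsg.Agent.BZ.X.F42.C)) (fun g => by rw [neg_one_mul, mul_neg_one])
    (by rw [neg_mul_neg, one_mul]) hne (X := Xu)
    (fun r hr => Units.ext (by rw [Units.val_mul, coe_Xu hr, sqM hr, Units.val_one])) fun r hr s hs => relU hr hs
  have := Fintype.ofFinite Γ
  have := FourTwo.AutF4.finite_LL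
  have : Fact (Nat.Prime 31) := ⟨by norm_num⟩
  have h1 : z ≠ 1 := fun h => hne (hz.symm.trans (congrArg Subtype.val h))
  have h2 : z * z = 1 := Subtype.ext (by rw [Subgroup.coe_mul, hz, neg_mul_neg, one_mul, Subgroup.coe_one])
  have hc : z ∈ center Γ := hσ.cen ((hk z).2 (.inr rfl))
  have v : Cv 2 σ := cv_of hσ hk h1 h2
  obtain ⟨ψ, h3, h4, h5⟩ := exists_char (p := 31) (n := 52) (by norm_num) (fun h => by
    obtain ⟨g, hg⟩ := exists_prime_orderOf_dvd_card' 31 h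
    have h6 := BZ.C6.ord_or σ (fun k hk' => by rcases (hk k).1 hk' with rfl | rfl; exacts [one_mul _, h2]) g
    have h7 := _root_.orderOf_dvd_natCard (σ g)
    rw [FourTwo.Classes.card_LL, show orderOf (σ g) = 31 by omega] at h7
    exact absurd h7 (by decide +kernel)) ((Units.coeHom _).comp Γ.subtype) (z := z) (congrArg Units.val hz)
  obtain ⟨χ, h6, h7, d, h8, h9⟩ := odd_const h3 hc h2 (by rw [h4, h5]; norm_num) h4
  exact ⟨Γ, inferInstance, inferInstance, σ, v, χ, d, h6, ((F42.mem_cen v).1 hc).resolve_left h1 ▸ h7, h8, h9⟩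

end Cfsg.Agent.MO.S.F42T
end

-- part: MO/S/F42T/Main
section
/-!
# MO, `2.F₄(2)` : the numbers of the faithful characters of `p'`-degree, `p = 3, 5, 7` (helper64)
-/

set_option autoImplicit false
set_option maxRecDepth 100000
set_option maxHeartbeats 400000
set_option synthInstance.maxSize 100000

namespace Cfsg.Agent.MO.S.F42T

open Cfsg Finset Subgroup Cfsg.Agent.TAB.Eng Cfsg.Agent.TAB.Use Cfsg.Agent.MO.S.Cov2 Cfsg.Agent.Characters.Core
open Cfsg.Agent.TAB.F42 (D ty_one Hyp)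

/-- the number of the fixed characters -/
noncomputable def cntF (p : ℕ) : ℕ := ∑ y ∈ range (ms.length + 0),
  if ¬ p ∣ (sdeg ms.length (sF ms) (nth bL) y).natAbs ∧ y ∈ fxL then mlt ms.length (mF ms) (sF ms) y else 0

theorem cntF_eq : cntF 3 = 9 ∧ cntF 5 = 4 ∧ cntF 7 = 9 := by decide +kernel

private noncomputable def _root_.Cfsg.Agent.LsF.fe1fa25_20 : {f // @Cfsg.Agent.MO.S.F42T.ms = f} := ⟨_, by first | (delta Cfsg.Agent.MO.S.F42T.ms; rewrite [Cfsg.Agent.LsF.lappend_pat, Cfsg.Agent.LsF.replicate_eq]; exact rfl) | exact rfl⟩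
private noncomputable def _root_.Cfsg.Agent.LsF.fe1fa25_21 : {f // @Int.sign = f} := ⟨_, by first | (delta Int.sign; rewrite [Cfsg.Agent.LsF.ineg_pat]; (try delta Int.sign.match_1); (try delta Int.casesOn Nat.casesOn); exact rfl) | exact rfl⟩
private noncomputable def _root_.Cfsg.Agent.LsF.fe1fa25_22 : {f // @Cfsg.Agent.MO.S.F42T.bL = f} := ⟨_, by first | (delta Cfsg.Agent.MO.S.F42T.bL; rewrite [Cfsg.Agent.LsF.map_eq]; exact rfl) | exact rfl⟩
private noncomputable def _root_.Cfsg.Agent.LsF.fe1fa25_23 : {f // @Cfsg.Agent.TAB.Eng.mlt = f} := ⟨_, by first | (delta Cfsg.Agent.TAB.Eng.mlt; rewrite [Cfsg.Agent.LsF.instDecEq_eq, Cfsg.Agent.LsF.decLt_eq, Cfsg.Agent.LsF.ite_eq]; exact rfl) | exact rfl⟩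
private noncomputable def _root_.Cfsg.Agent.LsF.fe1fa25_24 : {f // @Cfsg.Agent.TAB.Eng.gam = f} := ⟨_, by first | (delta Cfsg.Agent.TAB.Eng.gam; rewrite [Cfsg.Agent.LsF.icast_pat, Cfsg.Agent.LsF.instDecEq_eq, Cfsg.Agent.LsF.dAnd_eq, Cfsg.Agent.LsF.dNot_eq, Cfsg.Agent.LsF.ite_eq]; exact rfl) | exact rfl⟩
theorem dat : ms.length = 73 ∧ (∀ j < 73, (nth bL j).sign = 1 ∧ mlt 73 (mF ms) (sF ms) j ≠ 0 ∧
    gam (mF ms) (sF ms) j j = (if j < 71 then 1 else 2) ∧ ∀ i < 73, (nth bL i).natAbs = (nth bL j).natAbs →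
      (j = 0 → i = 0) ∧ (j = 1 ∨ j = 2 → i = 1 ∨ i = 2) ∧ (71 ≤ j → i = j)) ∧
    (nth bL 72).natAbs = 3572100 ∧ 71 ∈ fxL ∧ ntd tau 0 1 = 2 := by (refine of_decide_eq_true ?_; (try (rewrite [Cfsg.Agent.LsF.dMemE_pat, Cfsg.Agent.LsF.fe1fa25_20.2, Cfsg.Agent.LsF.fe1fa25_21.2, Cfsg.Agent.LsF.fe1fa25_22.2, Cfsg.Agent.LsF.fe1fa25_23.2, Cfsg.Agent.LsF.fe1fa25_24.2, Cfsg.Agent.LsF.instDecEq_eq, Cfsg.Agent.LsF.decLe_eq, Cfsg.Agent.LsF.decLt_eq, Cfsg.Agent.LsF.natAbs_eq, Cfsg.Agent.LsF.instIDecEq_eq, Cfsg.Agent.LsF.dAnd_eq, Cfsg.Agent.LsF.dOr_eq, Cfsg.Agent.LsF.dNot_eq, Cfsg.Agent.LsF.dBallLT_eq, Cfsg.Agent.LsF.dAllP_eq, Cfsg.Agent.LsF.length_eq, Cfsg.Agent.LsF.ite_eq, Cfsg.Agent.LsF.decide_eq])); decide +kernel)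

variable {K S : Type} [Group K] [Group S] {T : TD S D} {φ : K →* S} {l s : K → ℂ}

theorem cen_sq (v : Cv 2 φ) {z : K} (hz : φ z = 1) : z ^ 2 = 1 :=
  congrArg Subtype.val (v.card ▸ pow_card_eq_one' (x := (⟨z, v.ker.le hz⟩ : center K)))

theorem lift17 (v : Cv 2 φ) {g : K} (hg : orderOf (φ g) = 17) :
    φ (g ^ 17) = 1 ∧ φ (g ^ 17 * g) = φ g ∧ orderOf (g ^ 17 * g) = 17 := by
  have : Fact (Nat.Prime 17) := ⟨by norm_num⟩
  have h1 : φ (g ^ 17) = 1 := by rw [map_pow, ← hg, pow_orderOf_eq_one]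
  have h2 : φ (g ^ 17 * g) = φ g := by rw [map_mul, h1, one_mul]
  refine ⟨h1, h2, orderOf_eq_prime ?_ fun e => ?_⟩
  · rw [← pow_succ, ← pow_mul, show (17 + 1) * 17 = 17 * 2 * 9 from rfl, pow_mul, pow_mul, cen_sq v h1, one_pow]
  · rw [← h2, e, map_one, orderOf_one] at hg
    omega

theorem lift_conj (v : Cv 2 φ) {a b : K} (ha : orderOf a = 17) (hb : orderOf b = 17) (h : IsConj (φ a) (φ b)) :
    IsConj a b := by
  obtain ⟨c, hc⟩ := isConj_iff.1 h
  obtain ⟨c, rfl⟩ := v.surj c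
  obtain ⟨z, hz⟩ : ∃ z, c * a * c⁻¹ = z * b := ⟨c * a * c⁻¹ * b⁻¹, by group⟩
  have h1 : φ z = 1 := by
    have h1 := congrArg φ hz
    rwa [map_mul, map_mul, map_inv, hc, map_mul, right_eq_mul] at h1
  have h2 := congrArg (· ^ 17) hz
  simp only [conj_pow, Commute.mul_pow (mem_center_iff.1 (v.ker.le h1) b).symm] at h2
  rw [← ha, pow_orderOf_eq_one, ha, ← hb, pow_orderOf_eq_one, hb, mul_one, mul_one, mul_inv_cancel,
    show 17 = 2 * 8 + 1 from rfl, pow_succ, pow_mul, cen_sq v h1, one_pow, one_mul] at h2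
  exact isConj_iff.2 ⟨c, by rw [hz, ← h2, one_mul]⟩

theorem two17 (h : Hyp T) (γ : S ≃* S) {u : S} (hu : orderOf u = 17 ∧ ¬ IsConj u (γ u))
    (h1 : ∃ a b : S, orderOf a = 17 ∧ orderOf b = 17 ∧ D.cnt 77 ≤ Nat.card {g // IsConj a g ∨ IsConj b g}) :
    ∀ g, orderOf g = 17 → IsConj u g ∨ IsConj (γ u) g := by
  obtain ⟨a, b, ha, hb, hab⟩ := h1
  have := h.finite
  exact MK.S.F4.two_cls h.1 ha hb hab hu.1 ((γ.orderOf_eq u).trans hu.1) hu.2

variable [Fintype K]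

theorem norm_le (hφ : Function.Surjective φ) (hm : T.Mass) {χ : K → ℂ} (hχ : IsIrrCharacter K χ) {t : ℕ} (ht : t < D.n)
    {c : ℝ} (h : ∀ y, T.ty (φ y) = t → Complex.normSq (χ y) = c) : (D.cnt t : ℝ) * c ≤ D.N := by
  have : Finite S := Finite.of_surjective φ hφ
  have := Fintype.ofFinite S
  have h1 := (classInner_self_eq_ofReal χ).symm.trans (classInner_irr_self hχ)
  have h2 : (Nat.card K : ℝ) ≠ 0 := Nat.cast_ne_zero.2 Nat.card_pos.ne'
  rw [Complex.ofReal_eq_one, inv_mul_eq_one₀ h2] at h1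
  have h3 := H829.GowDesc.sum_comp_surj φ hφ fun u => if T.ty u = t then (c : ℂ) else 0
  rw [sum_mass hm fun u => if u = t then (c : ℂ) else 0] at h3
  simp only [smul_ite, smul_zero, Finset.sum_ite_eq', if_pos (Finset.mem_range.2 ht), nsmul_eq_mul] at h3
  have h4 : ∑ g, (if T.ty (φ g) = t then c else 0) = Nat.card φ.ker * (D.cnt t * c) := Complex.ofReal_injective (by
    push_cast [apply_ite Complex.ofReal]
    exact h3)
  refine le_of_mul_le_mul_left ?_ (Nat.cast_pos.2 (Nat.card_pos (α := φ.ker)))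
  rw [← h4, ← hm.1, ← Nat.cast_mul, ← card_top (G := S), ← MonoidHom.range_eq_top.2 hφ, ← index_ker,
    φ.ker.card_mul_index, h1]
  refine Finset.sum_le_sum fun g _ => ?_
  split_ifs with h5
  · rw [h g h5]
  · exact Complex.normSq_nonneg _

/-- the characters of degree `3572100` are moved -/
theorem moved (hm : T.Mass) (v : Cv 2 φ) {α : MulAut K} {γ : S → S} (hα : ∀ x, φ (α x) = γ (φ x)) {u : S}
    (hu : orderOf u = 17) (h17 : ∀ g, orderOf g = 17 → IsConj u g ∨ IsConj (γ u) g) {η : K → ℂ}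
    (hη : IsIrrCharacter K η) (hd : η 1 = 3572100) : ¬ ∀ x, η (α x) = η x := fun h => by
  obtain ⟨x, rfl⟩ := v.surj u
  obtain ⟨-, h1, h2⟩ := lift17 v hu
  generalize x ^ 17 * x = y at h1 h2
  have h3 : ∀ g, orderOf g = 17 → η g = η y := fun g hg => by
    have h3 : orderOf (φ g) = 17 := ((Nat.dvd_prime (by norm_num)).1 (hg ▸ orderOf_map_dvd φ g)).resolve_left fun e =>
      absurd (hg ▸ orderOf_dvd_of_pow_eq_one (cen_sq v (orderOf_eq_one_iff.1 e))) (by norm_num)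
    rcases h17 _ h3 with h4 | h4
    · exact (Characters.GaloisIrr.isConj_iff_forall_irr.1 (lift_conj v h2 hg (h1 ▸ h4)) _ hη).symm
    · rw [← h1, ← hα] at h4
      exact (Characters.GaloisIrr.isConj_iff_forall_irr.1 (lift_conj v ((α.orderOf_eq y).trans h2) hg h4) _ hη).symm.trans
        (h y)
  obtain ⟨m, h4⟩ := MK.S.F4.val_int (isIrr_isCharacter hη) (by norm_num) h2 h3
  have h5 := norm_le v.surj hm hη (t := 77) (by decide) (c := Complex.normSq (η y)) fun g hg => by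
    obtain ⟨h5, -, h6⟩ := lift17 v (MK.S.F4.ty_77.1 hg)
    obtain ⟨c, h7, h8, -⟩ := ODD.Red.exists_central hη (v.ker.le h5)
    rw [← h3 _ h6, h7, map_mul, Complex.normSq_eq_norm_sq c,
      Complex.norm_eq_one_of_pow_eq_one (h8 2 (cen_sq v h5)) two_ne_zero, one_pow, one_mul]
  have h7 : η y = ((3572100 - 17 * m : ℤ) : ℂ) := by
    rw [h4, hd]
    push_cast
    rfl
  rw [h7, Complex.normSq_intCast, MK.S.F4.c5.2.2, show D.N = 3311126603366400 from rfl] at h5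
  have h8 : (389544306278400 : ℤ) * ((3572100 - 17 * m) * (3572100 - 17 * m)) ≤ 3311126603366400 := by
    exact_mod_cast h5
  have h9 : (3572100 - 17 * m : ℤ) ≤ -8 ∨ 8 ≤ (3572100 - 17 * m : ℤ) := by omega
  generalize (3572100 - 17 * m : ℤ) = z at h8 h9
  rcases h9 with h9 | h9 <;> nlinarith only [h8, h9]

/-- **the fixed characters** -/
theorem fA_gen (h : Hyp T) (v : Cv 2 φ) (hl : Fl K l) (σ : Sg s) (hv : ∀ j, OV T φ s l (rw CC j)) {α : MulAut K}
    (hz : ∀ z ∈ center K, α z = z) (hτ : ∀ x, T.ty (φ (α x)) = ntd tau 0 (T.ty (φ x))) {y : K} (hy : T.ty (φ y) = 75)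
    (hy1 : IsConj y (α y)) (hy2 : ∀ z ∈ center K, IsConj (y * z) y → z = 1)
    (hη : ∀ η, IsIrrCharacter K η → η 1 = 3572100 → ¬ ∀ x, η (α x) = η x) {p : ℕ} (hp : p ∣ 3572100) :
    fA p l α = cntF p := by
  have := h.finite
  have := Fintype.ofFinite S
  obtain ⟨⟨ix, E⟩, -⟩ := en_of_okF v h.1 okLen (ty_one T) h.inh σ hl (fun j _ => hv j) okC
  obtain ⟨d0, d1, d2, d3, d4⟩ := dat
  obtain ⟨e1, e2, e3, e4⟩ := exC
  have hG := okC
  rw [okF, Bool.and_eq_true] at hG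
  refine E.fA p α _ ?_
  have g2 := (gram_of_chkG okLen hG.1).2
  rw [d0] at E g2 ⊢
  have lt : ∀ χ, ix χ < 73 := E.lt
  have hs : ∀ x, s x ≠ 0 := fun x e => by simpa [e] using σ.nrm x
  have hI : ∀ t < 92, ∃ x, T.ty (φ x) = t := fun t ht => by
    obtain ⟨g, hg⟩ := h.inh t ht
    obtain ⟨x, rfl⟩ := v.surj g
    exact ⟨x, hg⟩
  have nrm : ∀ j < 73, classInner (sf T φ s (rw CC j)) (sf T φ s (rw CC j)) = (if j < 71 then 1 else 2 : ℤ) :=
    fun j hj => by rw [inner_sf v.surj σ, inner_of_ipF h.1 (g2 j hj j hj), (d1 j hj).2.2.1]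
  have row : ∀ χ, ix χ < 71 → ∀ x, sf T φ s (rw CC (ix χ)) x = (χ.1 : K → ℂ) x := fun χ hj x => by
    have h1 := E.eq_row χ (lt χ) (hv _).1 (by rw [nrm _ (lt χ), if_pos hj, Int.cast_one]) x
    rwa [(d1 _ (lt χ)).1, Int.cast_one, one_mul] at h1
  have pair : ∀ χ χ', χ ≠ χ' → ix χ' = ix χ → 71 ≤ ix χ → ∀ x,
      sf T φ s (rw CC (ix χ)) x = (χ.1 : K → ℂ) x + (χ'.1 : K → ℂ) x := fun χ χ' h1 h2 hj x => by
    have h1 := En.pair E h1 h2 (by rw [nrm _ (lt χ), if_neg hj.not_gt, Int.cast_ofNat]) x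
    rwa [(d1 _ (lt χ)).1, Int.cast_one, one_mul] at h1
  obtain ⟨a, ha⟩ : ∃ a : Ir (center K) l → Ir (center K) l, ∀ χ x, ((a χ).1 : K → ℂ) x = (χ.1 : K → ℂ) (α x) :=
    ⟨fun χ => ⟨⟨_, isIrr_comp α.toMonoidHom α.surjective χ.1.2⟩, fun z h1 => by
      change (χ.1 : K → ℂ) (α z) = l z * (χ.1 : K → ℂ) (α 1)
      rw [hz z h1, map_one, χ.2 z h1]⟩, fun _ _ => rfl⟩
  have deg : ∀ χ, charDegree (χ.1 : K → ℂ) = (nth bL (ix χ)).natAbs := fun χ => by rw [E.deg, sdeg, if_pos (lt χ)]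
  have dg : ∀ χ, (ix χ = 0 → ix (a χ) = 0) ∧ (ix χ = 1 ∨ ix χ = 2 → ix (a χ) = 1 ∨ ix (a χ) = 2) ∧
      (71 ≤ ix χ → ix (a χ) = ix χ) := fun χ =>
    (d1 _ (lt χ)).2.2.2 _ (lt _) (by rw [← deg, ← deg, charDegree, charDegree, ha, map_one])
  have ex : ∀ j < 73, ∃ χ, ix χ = j := fun j hj =>
    (Nat.card_ne_zero.1 ((E.cnt j hj).trans_ne (d1 j hj).2.1)).1.elim fun χ => ⟨χ.1, χ.2⟩
  have mv : ∀ χ, ix χ < 71 → ix (a χ) < 71 → ∀ x, sf T φ s (rw CC (ix χ)) (α x) = sf T φ s (rw CC (ix (a χ))) x :=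
    fun χ h1 h2 x => by rw [row χ h1, row _ h2, ha]
  have s0 : ∀ x, sf T φ s (rw CC 0) (α x) = sf T φ s (rw CC 0) x := fun x => by
    obtain ⟨χ, h1⟩ := ex 0 (by norm_num)
    have h2 := (dg χ).1 h1
    have h3 := mv χ (by omega) (by omega) x
    rwa [h1, h2] at h3
  have s1 : ∀ i < 3, ∀ x, sf T φ s (rw CC i) (α x) = sf T φ s (rw CC (pr i)) x := fun i hi x => by
    rcases Nat.eq_zero_or_pos i with rfl | h0
    · exact s0 x
    obtain ⟨χ, rfl⟩ := ex i (by omega)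
    have h2 := (dg χ).2.1 (by omega)
    have h3 := mv χ (by omega) (by omega)
    rw [h3, pr, if_neg h0.ne', show ix (a χ) = 3 - ix χ from ?_]
    by_contra h4
    obtain ⟨b, hb⟩ := hI 1 (by norm_num)
    have h5 := s0 b
    have h6 := h3 b
    rw [show ix (a χ) = ix χ by omega] at h6
    simp only [sf, hτ, hb, d4] at h5 h6
    rw [e3.1] at h5
    rw [mul_right_cancel₀ (Int.cast_ne_zero.2 e3.2.1) h5] at h6
    have h7 : rw CC (ix χ) 1 = rw CC (ix χ) 2 := by exact_mod_cast (mul_left_cancel₀ (hs b) h6).symm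
    rcases show ix χ = 1 ∨ ix χ = 2 by omega with h8 | h8 <;> rw [h8] at h7
    exacts [e3.2.2.1 h7, e3.2.2.2 h7]
  have s2 : ∀ j < 73, ∀ x, sf T φ s (rw CC j) (α x) =
      s x * (nth eps (T.ty (φ x)) * rw CC j (ntd tau 0 (T.ty (φ x))) : ℤ) := fun j hj x => by
    rcases e1 _ (T.lt (φ x)) with h1 | ⟨i, hi, h1, h2⟩
    · rw [sf, hτ, h1 j hj, mul_zero, Int.cast_zero, mul_zero, mul_zero]
    · have h3 := s1 i hi x
      rw [sf, sf, hτ, h2, Int.cast_mul, ← mul_assoc] at h3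
      rw [sf, hτ, mul_right_cancel₀ (Int.cast_ne_zero.2 h1) h3, Int.cast_mul, mul_assoc]
  have fx : ∀ χ, a χ = χ ↔ ∀ x, (χ.1 : K → ℂ) (α x) = (χ.1 : K → ℂ) x := fun χ =>
    ⟨fun e x => by rw [← ha, e], fun e => Subtype.ext (Subtype.ext (funext fun x => (ha χ x).trans (e x)))⟩
  have m72 : ∀ χ, ix χ = 72 → a χ ≠ χ := fun χ h1 h2 => by
    obtain ⟨d, -, hd, -⟩ := H447.CTab.degree_dvd χ.1
    have h3 := deg χ
    rw [h1, d2, show charDegree (χ.1 : K → ℂ) = d by simp [charDegree, hd]] at h3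
    exact hη _ χ.1.2 (by rw [hd, h3, Nat.cast_ofNat]) ((fx χ).1 h2)
  have vy : ∀ j < 73, sf T φ s (rw CC j) y = 0 := fun j hj => by rw [sf, hy, e4 j hj, Int.cast_zero, mul_zero]
  obtain ⟨θ, hθ⟩ := exists_ne_zero hl hy2
  have t1 : 71 ≤ ix θ := not_lt.1 fun h1 => hθ ((row θ h1 y).symm.trans (vy _ (lt θ)))
  have t2 : a θ = θ := by_contra fun h1 => hθ (by
    have h2 := (pair θ _ (Ne.symm h1) ((dg θ).2.2 t1) t1 y).symm.trans (vy _ (lt θ))
    rw [ha, ← Characters.GaloisIrr.isConj_iff_forall_irr.1 hy1 _ θ.1.2] at h2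
    exact add_self_eq_zero.1 h2)
  have t3 : ix θ = 71 := by
    have h1 := lt θ
    have h2 : ix θ ≠ 72 := fun e => m72 θ e t2
    omega
  intro χ hd
  rw [sdeg, if_pos (lt χ)] at hd
  rcases lt_trichotomy (ix χ) 71 with h1 | h1 | h1
  · rw [e2 _ h1]
    refine ⟨fun h2 t ht => ?_, fun h2 x => by rw [← row χ h1, ← row χ h1, s2 _ (lt χ), h2 _ (T.lt _), sf]⟩
    obtain ⟨x, rfl⟩ := hI t ht
    have h3 := h2 x
    rw [← row χ h1, ← row χ h1, s2 _ (lt χ), sf] at h3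
    exact_mod_cast mul_left_cancel₀ (hs x) h3
  · refine iff_of_true (fun x => ?_) (h1 ▸ d3)
    by_cases h2 : θ = χ
    · exact h2 ▸ (fx θ).1 t2 x
    have h3 : θ ≠ a χ := fun e => h2 (Subtype.ext (Subtype.ext (funext fun x => by
      obtain ⟨x, rfl⟩ := α.surjective x
      rw [← ha, ← ha, t2, ← e])))
    rw [← ha]
    exact add_left_cancel ((pair θ _ h3 (((dg χ).2.2 h1.ge).trans (h1.trans t3.symm)) t1 x).symm.trans
      (pair θ χ h2 (h1.trans t3.symm) t1 x))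
  · have h2 := lt χ
    rw [show ix χ = 72 by omega, d2] at hd
    exact absurd hp hd

open Cfsg.Agent.FourTwo.Base Cfsg.Agent.MO.S.F42

theorem rows_LL {T : TD LL D} (h : Hyp T) {φ : K →* LL} (v : Cv 2 φ) (hl : Fl K l) {ψ : K → ℂ} {e : ℕ}
    (h1 : IsIrrCharacter K ψ) (h2 : ∀ g, ψ (g * zc v) = -ψ g) (h3 : ψ 1 = e) (h4 : e ≤ 52) :
    ∃ s, Sg s ∧ ∀ j, OV T φ s l (rw CC j) :=
  rows h v hl (fun g => by rw [← mem_cen v, ← v.ker, MonoidHom.mem_ker]) (zc_ne v) h1 h2 h3 h4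

theorem gk_LL (p : ℕ) : GK p 2 LL (cntD p dg) := by
  obtain ⟨K, _, _, φ, v, ψ, e, h1, h2, h3, h4⟩ := cover
  obtain ⟨T, h, -⟩ := exists_T
  refine gk_of_one H65.F4T.hasMult_LL Nat.prime_two (by decide) v fun l hl => ?_
  obtain ⟨s, σ, hv⟩ := rows_LL h v hl h1 h2 h3 h4
  exact kk_of_okF v h.1 okLen (ty_one T) h.inh σ hl (fun j _ => hv j) okC p

theorem gf_LL {p : ℕ} (hp : p ∣ 3572100) : GF p 2 LL (cntF p) := by
  obtain ⟨K, _, _, φ, v, ψ, e, h1, h2, h3, h4⟩ := cover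
  obtain ⟨T, h, hτ, hy⟩ := exists_T
  refine gf_of_one H65.F4T.hasMult_LL Nat.prime_two (by decide) v fun α hz hn l hl => ?_
  obtain ⟨s, σ, hv⟩ := rows_LL h v hl h1 h2 h3 h4
  obtain ⟨c, hc⟩ := exists_gam v hn
  have h5 : ∀ z ∈ center K, (MulAut.conj c * α : MulAut K) z = z := fun z h5 => by
    rw [MulAut.mul_apply, hz z h5, MulAut.conj_apply, mem_center_iff.1 h5, mul_inv_cancel_right]
  rw [← MO.T.fA_conj_mul c]
  generalize MulAut.conj c * α = β at hc h5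
  have h6 : ∀ x, φ (β x) = (fun g => TAB.F42.G.gam g) (φ x) := hc
  exact fA_gen h v hl σ hv h5 (fun x => by rw [h6, hτ]) (by rw [map_W v n_lt, hy]) (n_conj v h6) (n_split v)
    (fun η => moved h.1 v h6 MK.S.F4.x17.1 (two17 h TAB.F42.G.gam MK.S.F4.x17 MK.S.F4.g17)) hp

theorem gk3 : GK 3 2 LL 27 := cnt.1 ▸ gk_LL 3
theorem gk5 : GK 5 2 LL 20 := cnt.2.1 ▸ gk_LL 5
theorem gk7 : GK 7 2 LL 27 := cnt.2.2 ▸ gk_LL 7
theorem gf3 : GF 3 2 LL 9 := cntF_eq.1 ▸ gf_LL (by norm_num)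
theorem gf5 : GF 5 2 LL 4 := cntF_eq.2.1 ▸ gf_LL (by norm_num)
theorem gf7 : GF 7 2 LL 9 := cntF_eq.2.2 ▸ gf_LL (by norm_num)

end Cfsg.Agent.MO.S.F42T
end

-- part: MO/S/F42T/Fin
section
/-!
# MO, `2.F₄(2)` : the fields `f42_2_3`, `f42_2_5`, `f42_2_7` of `ExcIn` (helper64)
-/

set_option autoImplicit false

namespace Cfsg.Agent.MO.S.F42T

open Cfsg Cfsg.Lie

variable (F : Type) [Field F] [Fintype F] (hF : Fintype.card F = 2)

include hF

theorem gkF {p c : ℕ} (h : GK p 2 FourTwo.Base.LL c) : GK p 2 (chevF4.group F) c :=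
  (TAB.F42.iso F hF).elim fun e => GK.congr (S' := FourTwo.Base.LL) e.symm h

theorem gfF {p c : ℕ} (h : GF p 2 FourTwo.Base.LL c) : GF p 2 (chevF4.group F) c :=
  (TAB.F42.iso F hF).elim fun e => GF.congr (S' := FourTwo.Base.LL) e.symm h

theorem f42_2_3 : SmC 3 2 (chevF4.group F) := F42.smC3 F hF (gkF F hF gk3) (gfF F hF gf3)

theorem f42_2_5 : SmC 5 2 (chevF4.group F) := F42.smC5 F hF (gkF F hF gk5) (gfF F hF gf5)

theorem f42_2_7 : SmC 7 2 (chevF4.group F) := F42.smC7 F hF (gkF F hF gk7) (gfF F hF gf7)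

end Cfsg.Agent.MO.S.F42T
end

private theorem dce_5acab9ec902d : _root_.True := by
  try have : _root_.True := by simp only [_root_.Cfsg.Agent.MO.S.F42T.Xu.eq_1]
  try have : _root_.True := by simp only [_root_.Cfsg.Agent.MO.S.F42T.wL.eq_1]
  try have : _root_.True := by simp only [_root_.Cfsg.Agent.MO.S.F42T.pr.eq_1]
  exact _root_.True.intro
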